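import Mathlib

/-!
# Livingstone–Wagner lemma (S0747): shared definitions

Setting: `G : Subgroup (Equiv.Perm α)`, `α` finite.
-/

set_option autoImplicit false

namespace Cfsg.Agent.Lib.Helper20.LWL

variable {α : Type*} [Fintype α] [DecidableEq α]

/-- number of fixed points of a permutation -/
def fixN (g : Equiv.Perm α) : ℕ := (Finset.univ.filter fun x => g x = x).card

open Classical in
/-- the set of common fixed points of a subgroup -/
noncomputable def fixS (U : Subgroup (Equiv.Perm α)) : Finset α :=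
  Finset.univ.filter fun x => ∀ g ∈ U, g x = x

/-- `g` normalizes `U` -/
def Nrm (U : Subgroup (Equiv.Perm α)) (g : Equiv.Perm α) : Prop :=
  ∀ u, u ∈ U ↔ g * u * g⁻¹ ∈ U

/-- every permutation of `Δ` is induced by an element of `G` -/
def FullOn (G : Subgroup (Equiv.Perm α)) (Δ : Finset α) : Prop :=
  ∀ σ : Equiv.Perm ↥Δ, ∃ g ∈ G, ∀ x : ↥Δ, g (x : α) = σ x

/-- the conclusion of S0747 -/
def GoodA (G : Subgroup (Equiv.Perm α)) (k : ℕ) : Prop :=
  ∃ Δ : Finset α, Δ.card = k + 1 ∧ ∀ σ : Equiv.Perm ↥Δ, σ ∈ alternatingGroup ↥Δ →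
    ∃ g ∈ G, ∀ x : ↥Δ, g (x : α) = σ x

theorem mem_fixS {U : Subgroup (Equiv.Perm α)} {x : α} : x ∈ fixS U ↔ ∀ g ∈ U, g x = x := by
  classical
  simp [fixS]

end Cfsg.Agent.Lib.Helper20.LWL
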